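import Groth.Agent.Flat2B.GINLocal
import Mathlib.RingTheory.DiscreteValuationRing.TFAE
import Mathlib.RingTheory.DedekindDomain.IntegralClosure
import Mathlib.RingTheory.Valuation.ValuationSubring
import Mathlib.RingTheory.Valuation.LocalSubring
import Mathlib.RingTheory.Henselian
import Mathlib.FieldTheory.IsAlgClosed.Basic

/-!
# Bounding the degree of a subextension by a dominating discrete valuation ring

Let `V` be a henselian discrete valuation ring of characteristic zero with algebraically closed
residue field and fraction field `K`, and `K'` a finite extension of `K` contained in a field `E`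
which has a discrete valuation ring `W` dominating `V`. Then `[K' : K]` is at most the valuation in
`W` of a uniformizer of `V`.
-/

set_option autoImplicit false

open IsLocalRing Module

namespace K653.MilnorB

/-- If `S` is finite over `V` local with the same residue field and `ϖ' ∈ S` generates the maximal
ideal of `S` and `ϖ'^e` divides into the extension of the maximal ideal of `V`, then the powers
`ϖ'^i`, `i < e`, generate `S`. -/
theorem span_eq_top {V S : Type*} [CommRing V] [IsLocalRing V] [CommRing S]
    [Algebra V S] [Module.Finite V S] (ϖ : S)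
    (hres : ∀ s : S, ∃ v : V, ∃ t : S, s = algebraMap V S v + ϖ * t) (e : ℕ)
    (he : ∀ s : S, ϖ ^ e * s ∈ (maximalIdeal V) • (⊤ : Submodule V S)) :
    Submodule.span V (Set.range fun i : Fin e => ϖ ^ (i : ℕ)) = ⊤ := by
  have key : ∀ j ≤ e, ∀ s : S, ∃ y ∈ Submodule.span V (Set.range fun i : Fin e => ϖ ^ (i : ℕ)),
      ∃ t : S, s = y + ϖ ^ j * t := by
    intro j
    induction j with
    | zero => intro _ s; exact ⟨0, Submodule.zero_mem _, s, by simp⟩
    | succ j ih =>
      intro hj s
      obtain ⟨y, hy, t, rfl⟩ := ih (by omega) s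
      obtain ⟨v, t', rfl⟩ := hres t
      refine ⟨y + v • ϖ ^ j, Submodule.add_mem _ hy (Submodule.smul_mem _ _
        (Submodule.subset_span ⟨⟨j, by omega⟩, rfl⟩)), t', ?_⟩
      rw [Algebra.smul_def]
      ring
  apply top_le_iff.1
  apply Submodule.le_of_le_smul_of_le_jacobson_bot (I := maximalIdeal V)
  · exact Module.Finite.fg_top
  · exact IsLocalRing.maximalIdeal_le_jacobson _
  · rintro s -
    obtain ⟨y, hy, t, rfl⟩ := key e le_rfl s
    exact Submodule.add_mem_sup hy (he t)

/-- The bound. -/
theorem finrank_le {V K K' E : Type*} [CommRing V] [IsDomain V] [IsDiscreteValuationRing V]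
    [HenselianLocalRing V] [IsAlgClosed (ResidueField V)] [Field K] [Algebra V K]
    [IsFractionRing V K] [CharZero K] [Field K'] [Algebra K K'] [FiniteDimensional K K']
    [Algebra V K'] [IsScalarTower V K K'] [Field E] [Algebra K' E] [Algebra V E]
    (hVE : ∀ v : V, algebraMap V E v = algebraMap K' E (algebraMap V K' v))
    (W : ValuationSubring E)
    (hW : ∀ a : V, algebraMap V E a ∈ W) (ϖ : V) (hϖ : Irreducible ϖ)
    (hϖW : (⟨algebraMap V E ϖ, hW ϖ⟩ : W) ∈ maximalIdeal W) (N : ℕ)
    (hN : (⟨algebraMap V E ϖ, hW ϖ⟩ : W) ∉ maximalIdeal W ^ (N + 1)) :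
    finrank K K' ≤ N := by
  have : IsScalarTower V K' E := IsScalarTower.of_algebraMap_eq hVE
  let S := integralClosure V K'
  have hSD : IsDedekindDomain S := integralClosure.isDedekindDomain V K K'
  have hfin : Module.Finite V S := IsIntegralClosure.finite V K K' S
  have hloc : IsLocalRing S :=
    Groth.Agent.Flat2B.GINLocal.isLocalRing_of_isIntegral_of_isDomain V S
  have hinj : Function.Injective (algebraMap V S) := by
    have h1 : Function.Injective (algebraMap V K') := by
      rw [IsScalarTower.algebraMap_eq V K K']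
      exact (algebraMap K K').injective.comp (IsFractionRing.injective V K)
    intro a b hab
    apply h1
    rw [IsScalarTower.algebraMap_apply V S K', hab, ← IsScalarTower.algebraMap_apply V S K']
  have hlh : IsLocalHom (algebraMap V S) :=
    (algebraMap_isIntegral_iff.2 (inferInstance : Algebra.IsIntegral V S)).isLocalHom hinj
  have hϖS : algebraMap V S ϖ ∈ maximalIdeal S := by
    rw [mem_maximalIdeal, mem_nonunits_iff]
    intro h
    exact hϖ.not_isUnit (isUnit_of_map_unit _ _ h)
  have hϖ0 : algebraMap V S ϖ ≠ 0 := by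
    rw [Ne, map_eq_zero_iff _ hinj]
    exact hϖ.ne_zero
  have hnf : ¬ IsField S := by
    intro h
    rw [IsLocalRing.isField_iff_maximalIdeal_eq] at h
    rw [h] at hϖS
    exact hϖ0 hϖS
  have hdvr : IsDiscreteValuationRing S :=
    ((IsDiscreteValuationRing.TFAE S hnf).out 0 2).2 hSD
  obtain ⟨ϖ', hϖ'⟩ := IsDiscreteValuationRing.exists_irreducible S
  obtain ⟨e, he⟩ := IsDiscreteValuationRing.associated_pow_irreducible hϖ0 hϖ'
  obtain ⟨u, hu⟩ := he
  -- residue fields agree
  have hres : ∀ s : S, ∃ v : V, ∃ t : S, s = algebraMap V S v + ϖ' * t := by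
    intro s
    have h1 : Function.Surjective (algebraMap (ResidueField V) (ResidueField S)) := by
      exact (IsAlgClosed.algebraMap_bijective_of_isIntegral).2
    obtain ⟨x, hx⟩ := h1 (residue S s)
    obtain ⟨v, rfl⟩ := residue_surjective x
    have h2 : s - algebraMap V S v ∈ maximalIdeal S := by
      rw [← residue_eq_zero_iff, map_sub, ← hx, sub_eq_zero]
      rfl
    rw [(IsDiscreteValuationRing.irreducible_iff_uniformizer ϖ').1 hϖ',
      Ideal.mem_span_singleton] at h2
    obtain ⟨t, ht⟩ := h2
    exact ⟨v, t, by rw [← ht]; ring⟩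
  have hmem : ∀ s : S, ϖ' ^ e * s ∈ (maximalIdeal V) • (⊤ : Submodule V S) := by
    intro s
    rw [← hu]
    have : algebraMap V S ϖ * (u : S) * s = ϖ • ((u : S) * s) := by
      rw [Algebra.smul_def]; ring
    rw [this]
    exact Submodule.smul_mem_smul ((mem_maximalIdeal _).2 hϖ.not_isUnit) trivial
  have hspan := span_eq_top ϖ' hres e hmem
  -- the degree is at most `e`
  have hle : finrank K K' ≤ e := by
    have h1 : Submodule.span K (Set.range fun i : Fin e => ((ϖ' ^ (i : ℕ) : S) : K')) = ⊤ := by
      rw [eq_top_iff]
      rintro x -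
      have hx : IsAlgebraic V x := by
        have h2 : IsAlgebraic K x := Algebra.IsAlgebraic.isAlgebraic x
        exact (IsFractionRing.isAlgebraic_iff V K K').2 h2
      obtain ⟨y, hy0, hy⟩ := hx.exists_integral_multiple
      have hmem' : (⟨y • x, hy⟩ : S) ∈
          Submodule.span V (Set.range fun i : Fin e => ϖ' ^ (i : ℕ)) := by
        rw [hspan]; trivial
      have h3 : y • x ∈ Submodule.span K
          (Set.range fun i : Fin e => ((ϖ' ^ (i : ℕ) : S) : K')) := by
        have h4 : ∀ s ∈ Submodule.span V (Set.range fun i : Fin e => ϖ' ^ (i : ℕ)),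
            (s : K') ∈ Submodule.span K
              (Set.range fun i : Fin e => ((ϖ' ^ (i : ℕ) : S) : K')) := by
          intro s hs
          induction hs using Submodule.span_induction with
          | mem s hs => 
            obtain ⟨i, rfl⟩ := hs
            exact Submodule.subset_span ⟨i, rfl⟩
          | zero => exact Submodule.zero_mem _
          | add a b _ _ ha hb => exact Submodule.add_mem _ ha hb
          | smul v a _ ha =>
            have : ((v • a : S) : K') = algebraMap V K v • (a : K') := by
              rw [algebraMap_smul]; rfl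
            rw [this]
            exact Submodule.smul_mem _ _ ha
        exact h4 _ hmem'
      have h5 : x = (algebraMap V K y)⁻¹ • (y • x) := by
        rw [← algebraMap_smul K y x, smul_smul, inv_mul_cancel₀, one_smul]
        rw [Ne, map_eq_zero_iff _ (IsFractionRing.injective V K)]
        exact hy0
      rw [h5]
      exact Submodule.smul_mem _ _ h3
    have h2 := finrank_range_le_card (R := K) (fun i : Fin e => ((ϖ' ^ (i : ℕ) : S) : K'))
    rw [Set.finrank, h1, finrank_top, Fintype.card_fin] at h2
    exact h2
  -- elements of `S` lie in `W`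
  have hSW : ∀ s : S, algebraMap K' E s ∈ W := by
    intro s
    let ρ : V →+* W := (algebraMap V E).codRestrict W.toSubring hW
    have h1 : IsIntegral V (algebraMap K' E (s : K')) :=
      (s.2 : IsIntegral V (s : K')).map (IsScalarTower.toAlgHom V K' E)
    have h2 : IsIntegral W (algebraMap K' E (s : K')) := by
      let _ : Algebra V W := ρ.toAlgebra
      have : IsScalarTower V W E := IsScalarTower.of_algebraMap_eq fun x => rfl
      exact h1.tower_top
    obtain ⟨w, hw⟩ := IsIntegrallyClosed.isIntegral_iff.1 h2
    rw [← hw]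
    exact w.2
  let σ : S →+* W := ((algebraMap K' E).comp (algebraMap S K')).codRestrict W.toSubring hSW
  have hσϖ : σ (algebraMap V S ϖ) = ⟨algebraMap V E ϖ, hW ϖ⟩ := by
    apply Subtype.ext
    change algebraMap K' E (algebraMap V K' ϖ) = _
    rw [← IsScalarTower.algebraMap_apply V K' E]
  have hσ : σ ϖ' ^ e = ⟨algebraMap V E ϖ, hW ϖ⟩ * σ u := by
    rw [← map_pow, ← hu, map_mul, hσϖ]
  have hσ' : σ ϖ' ∈ maximalIdeal W := by
    have h1 : σ ϖ' ^ e ∈ maximalIdeal W := by
      rw [hσ]; exact Ideal.mul_mem_right _ _ hϖW
    exact (inferInstance : (maximalIdeal W).IsPrime).mem_of_pow_mem _ h1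
  have heN : e ≤ N := by
    by_contra hcon
    push Not at hcon
    apply hN
    have h1 : (⟨algebraMap V E ϖ, hW ϖ⟩ : W) = σ ϖ' ^ e * σ (↑u⁻¹ : S) := by
      rw [hσ, mul_assoc, ← map_mul, Units.mul_inv, map_one, mul_one]
    rw [h1]
    apply Ideal.mul_mem_right
    exact Ideal.pow_le_pow_right (by omega) (Ideal.pow_mem_pow hσ' e)
  exact hle.trans heN

end K653.MilnorB
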