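import Groth.Agent.Hensel.K653.MilnorA
import Groth.Agent.Hensel.K653.MilnorB
import Groth.Agent.Ega43.DvrDomination
import Mathlib.RingTheory.EssentialFiniteness
import Mathlib.FieldTheory.IntermediateField.Adjoin.Algebra
import Mathlib.RingTheory.Filtration
import Mathlib.RingTheory.Noetherian.OfPrime
import Mathlib.LinearAlgebra.Dimension.Free

/-!
# The coordinate ring of the algebraic Milnor fibre is Noetherian

Let `V` be a henselian discrete valuation ring of characteristic zero with algebraically closed
residue field, `L` an algebraic closure of its fraction field and `V → B` a local homomorphism to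
a Noetherian local ring. Then `L ⊗[V] B` is Noetherian.
-/

set_option autoImplicit false

universe u

open IsLocalRing Module TensorProduct

namespace K653.Milnor

/-- An algebraic extension is finite when the finite subextensions have bounded degree. -/
theorem finiteDimensional_of_bound {K M : Type*} [Field K] [Field M] [Algebra K M]
    [Algebra.IsAlgebraic K M] (N : ℕ)
    (h : ∀ K' : IntermediateField K M, FiniteDimensional K K' → finrank K K' ≤ N) :
    FiniteDimensional K M := by
  have h1 : Module.rank K M ≤ N := by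
    apply rank_le
    intro s hs
    let K' := IntermediateField.adjoin K (s : Set M)
    have : FiniteDimensional K K' :=
      IntermediateField.finiteDimensional_adjoin (fun x _ => Algebra.IsIntegral.isIntegral x)
    refine le_trans ?_ (h K' this)
    have h2 : LinearIndependent K (fun i : s => (⟨i, IntermediateField.subset_adjoin K _ i.2⟩ : K')) := by
      apply LinearIndependent.of_comp K'.val.toLinearMap
      exact hs
    simpa using h2.fintype_card_le_finrank
  exact Module.rank_lt_aleph0_iff.1 (lt_of_le_of_lt h1 Cardinal.natCast_lt_aleph0)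

/-- The Milnor fibre ring is Noetherian. -/
theorem isNoetherianRing (V : Type u) [CommRing V] [IsDomain V] [IsDiscreteValuationRing V]
    [HenselianLocalRing V] [IsAlgClosed (ResidueField V)] [CharZero V]
    (L : Type u) [Field L] [IsAlgClosed L] [Algebra V L] [FaithfulSMul V L]
    [Algebra.IsAlgebraic V L] (B : Type u) [CommRing B] [IsLocalRing B] [IsNoetherianRing B]
    [Algebra V B] [IsLocalHom (algebraMap V B)] : IsNoetherianRing (L ⊗[V] B) := by
  apply IsNoetherianRing.of_prime
  intro P hP
  let F := FractionRing ((L ⊗[V] B) ⧸ P)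
  let φ : L ⊗[V] B →+* F := (algebraMap _ F).comp (Ideal.Quotient.mk P)
  have hφ : RingHom.ker φ = P := by
    rw [← RingHom.comap_ker]
    rw [(RingHom.injective_iff_ker_eq_bot _).1 (IsFractionRing.injective ((L ⊗[V] B) ⧸ P) F)]
    exact Ideal.mk_ker
  rw [← hφ]
  -- the structure maps of `F`
  let ψ : L →+* F := φ.comp Algebra.TensorProduct.includeLeftRingHom
  let θ : B →+* F := φ.comp (Algebra.TensorProduct.includeRight : B →ₐ[V] L ⊗[V] B).toRingHom
  have hψθ : ∀ v : V, ψ (algebraMap V L v) = θ (algebraMap V B v) := by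
    intro v
    change φ (algebraMap V L v ⊗ₜ 1) = φ (1 ⊗ₜ algebraMap V B v)
    rw [Algebra.algebraMap_eq_smul_one, Algebra.algebraMap_eq_smul_one, TensorProduct.smul_tmul]
  let p : Ideal B := RingHom.ker θ
  have hp : p.IsPrime := RingHom.ker_isPrime θ
  let E := FractionRing (B ⧸ p)
  let ι : E →+* F := IsFractionRing.lift (A := B ⧸ p) (K := E) (g := RingHom.kerLift θ) 
    (RingHom.kerLift_injective θ)
  have hι : ∀ b : B, ι (algebraMap (B ⧸ p) E (Ideal.Quotient.mk p b)) = θ b := by
    intro b
    exact IsFractionRing.lift_algebraMap (RingHom.kerLift_injective θ) _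
  let β : B →ₐ[V] E := (IsScalarTower.toAlgHom V (B ⧸ p) E).comp (Ideal.Quotient.mkₐ V p)
  have hβ : ∀ b : B, ι (β b) = θ b := hι
  let K := FractionRing V
  let _ : Algebra K L := FractionRing.liftAlgebra V L
  have hKL : IsScalarTower V K L := inferInstance
  have hVE : ∀ v : V, ι (algebraMap V E v) = ψ (algebraMap V L v) := by
    intro v
    rw [hψθ, ← hβ]
    rfl
  -- the finite level
  let K₁ : IntermediateField K L :=
    { (ι.fieldRange).comap ψ with
      algebraMap_mem' := by
        intro x
        obtain ⟨a, b, hb, rfl⟩ := IsFractionRing.div_surjective (A := V) x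
        change ψ (algebraMap K L (algebraMap V K a / algebraMap V K b)) ∈ ι.fieldRange
        rw [map_div₀, map_div₀, ← IsScalarTower.algebraMap_apply V K L,
          ← IsScalarTower.algebraMap_apply V K L]
        exact div_mem ⟨_, hVE a⟩ ⟨_, hVE b⟩ }
  have hK₁ : ∀ x : L, x ∈ K₁ ↔ ∃ y, ι y = ψ x := fun x => Iff.rfl
  choose τ' hτ' using fun x : K₁ => (hK₁ x.1).1 x.2
  let τ : K₁ →+* E :=
    { toFun := τ'
      map_one' := ι.injective (by rw [hτ', map_one]; exact map_one ψ)
      map_zero' := ι.injective (by rw [hτ', map_zero]; exact map_zero ψ)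
      map_mul' := fun x y => ι.injective (by rw [map_mul, hτ', hτ', hτ']; exact map_mul ψ _ _)
      map_add' := fun x y => ι.injective (by rw [map_add, hτ', hτ', hτ']; exact map_add ψ _ _) }
  have hτ : ∀ x : K₁, ι (τ x) = ψ x := hτ'
  let _ : Algebra K₁ E := τ.toAlgebra
  have hVK₁E : IsScalarTower V K₁ E := by
    apply IsScalarTower.of_algebraMap_eq
    intro v
    apply ι.injective
    change _ = ι (τ (algebraMap V K₁ v))
    rw [hτ, hVE]
    rfl
  have hVK₁L : IsScalarTower V K₁ L := IsScalarTower.of_algebraMap_eq fun v => rfl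
  have hKalg : Algebra.IsAlgebraic K L :=
    ⟨fun x => (IsFractionRing.isAlgebraic_iff V K L).1 (Algebra.IsAlgebraic.isAlgebraic x)⟩
  have hK₁alg : Algebra.IsAlgebraic K₁ L := Algebra.IsAlgebraic.tower_top (K := K) K₁
  have hKK₁alg : Algebra.IsAlgebraic K K₁ := Algebra.IsAlgebraic.tower_bot K K₁ L
  have hK₁fin : FiniteDimensional K K₁ := by
    obtain ⟨ϖ, hϖ⟩ := IsDiscreteValuationRing.exists_irreducible V
    let A : Subring E := (algebraMap (B ⧸ p) E).range
    have hAn : IsNoetherianRing A := isNoetherianRing_range _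
    have hAf : IsFractionRing A E := by
      have : FaithfulSMul A E := inferInstance
      apply IsFractionRing.of_field
      intro z
      obtain ⟨a, b, hb, rfl⟩ := IsFractionRing.div_surjective (A := B ⧸ p) z
      exact ⟨⟨_, a, rfl⟩, ⟨_, b, rfl⟩, rfl⟩
    have hVE' : ∀ v : V, algebraMap V E v = algebraMap (B ⧸ p) E (Ideal.Quotient.mk p
      (algebraMap V B v)) := fun v => rfl
    let x : A := ⟨algebraMap V E ϖ, _, (hVE' ϖ).symm⟩
    have hVEinj : Function.Injective (algebraMap V E) := by
      intro a b hab
      apply FaithfulSMul.algebraMap_injective V L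
      apply ψ.injective
      rw [← hVE, ← hVE, hab]
    have hx0 : x ≠ 0 := by
      intro h
      have : algebraMap V E ϖ = 0 := congrArg Subtype.val h
      rw [map_eq_zero_iff _ hVEinj] at this
      exact hϖ.ne_zero this
    have hxu : ¬ IsUnit x := by
      intro h
      obtain ⟨y, hy⟩ := isUnit_iff_exists_inv.1 h
      obtain ⟨_, b, rfl⟩ := y
      obtain ⟨b, rfl⟩ := Ideal.Quotient.mk_surjective b
      have h1 : algebraMap (B ⧸ p) E (Ideal.Quotient.mk p (algebraMap V B ϖ * b)) =
          algebraMap (B ⧸ p) E 1 := by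
        rw [map_mul, map_mul, map_one]
        exact congrArg Subtype.val hy
      have h2 := IsFractionRing.injective (B ⧸ p) E h1
      have h3 : algebraMap V B ϖ * b - 1 ∈ p := by
        rw [← Ideal.Quotient.eq_zero_iff_mem, map_sub, h2, map_one, sub_self]
      have h4 : algebraMap V B ϖ ∈ maximalIdeal B := by
        rw [mem_maximalIdeal, mem_nonunits_iff]
        intro h
        exact hϖ.not_isUnit (isUnit_of_map_unit _ _ h)
      have h5 : (1 : B) ∈ maximalIdeal B := by
        have : (1 : B) = algebraMap V B ϖ * b - (algebraMap V B ϖ * b - 1) := by ring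
        rw [this]
        exact Ideal.sub_mem _ (Ideal.mul_mem_right _ _ h4) (le_maximalIdeal hp.ne_top h3)
      exact (Ideal.ne_top_iff_one _).1 (maximalIdeal.isMaximal B).ne_top h5
    obtain ⟨W, hWd, hAW, hWx⟩ := Groth.Agent.Ega43.DvrDomination.exists_dvr_of_subring E A hAf x
      hx0 hxu
    have hW : ∀ a : V, algebraMap V E a ∈ W := fun a => hAW ⟨_, (hVE' a).symm⟩
    have hϖW : (⟨algebraMap V E ϖ, hW ϖ⟩ : W) ∈ maximalIdeal W := by
      obtain ⟨h, hm⟩ := ValuationSubring.mem_nonunits_iff_exists_mem_maximalIdeal.1 hWx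
      exact hm
    have hN : ∃ N : ℕ, (⟨algebraMap V E ϖ, hW ϖ⟩ : W) ∉ maximalIdeal W ^ (N + 1) := by
      by_contra hcon
      push Not at hcon
      have h1 : (⟨algebraMap V E ϖ, hW ϖ⟩ : W) ∈ ⨅ i : ℕ, maximalIdeal W ^ i := by
        rw [Ideal.mem_iInf]
        intro i
        exact Ideal.pow_le_pow_right (Nat.le_succ i) (hcon i)
      rw [Ideal.iInf_pow_eq_bot_of_isLocalRing _ (maximalIdeal.isMaximal W).ne_top] at h1
      have h2 : algebraMap V E ϖ = 0 := congrArg Subtype.val ((Ideal.mem_bot).1 h1)
      exact hx0 (Subtype.ext h2)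
    obtain ⟨N, hN⟩ := hN
    apply finiteDimensional_of_bound N
    intro K' hK'
    let _ : Algebra K' E := (τ.comp (algebraMap K' K₁)).toAlgebra
    have hVK'E : ∀ v : V, algebraMap V E v = algebraMap K' E (algebraMap V K' v) := by
      intro v
      rw [IsScalarTower.algebraMap_apply V K₁ E]
      rfl
    exact MilnorB.finrank_le (V := V) (K := K) (K' := K') (E := E) hVK'E W hW ϖ hϖ hϖW N hN
  have hnoeth : IsNoetherianRing (K₁ ⊗[V] B) := by
    have h1 : Algebra.EssFiniteType V K := Algebra.EssFiniteType.of_isLocalization K (nonZeroDivisors V)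
    have h2 : Algebra.EssFiniteType K K₁ := inferInstance
    have h3 : Algebra.EssFiniteType V K₁ := Algebra.EssFiniteType.comp V K K₁
    have h4 : IsNoetherianRing (B ⊗[V] K₁) := Algebra.EssFiniteType.isNoetherianRing B _
    exact isNoetherianRing_of_ringEquiv _ (Algebra.TensorProduct.comm V B K₁).toRingEquiv
  have hE : IsField (E ⊗[K₁] L) := by
    have : CharZero K₁ := charZero_of_injective_algebraMap (algebraMap K K₁).injective
    apply Groth.Agent.Cohder.HWLD.isField
    intro x hx
    let _ : Algebra L F := ψ.toAlgebra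
    have h1 : IsIntegral L (ι x) := by
      have h2 : IsIntegral K₁ x := hx.isIntegral
      obtain ⟨f, hf, hfx⟩ := h2
      refine ⟨f.map (algebraMap K₁ L), hf.map _, ?_⟩
      rw [Polynomial.eval₂_map]
      have h3 : (algebraMap L F).comp (algebraMap K₁ L) = ι.comp (algebraMap K₁ E) := by
        ext z
        exact (hτ z).symm
      rw [h3, ← Polynomial.hom_eval₂, hfx, map_zero]
    obtain ⟨l, hl⟩ := minpoly.mem_range_of_degree_eq_one L (ι x)
      (IsAlgClosed.degree_eq_one_of_irreducible L (minpoly.irreducible h1))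
    have hl' : l ∈ K₁ := (hK₁ l).2 ⟨x, hl.symm⟩
    refine ⟨⟨l, hl'⟩, ?_⟩
    apply ι.injective
    change ι (τ _) = _
    rw [hτ, ← hl]
    rfl
  exact MilnorA.fg_ker (K := K₁) φ β ι (fun b => (hβ b).symm) (fun x => (hτ x).symm) hE

end K653.Milnor
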