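import Groth.Agent.Cohder.HWLD
import Mathlib.RingTheory.Flat.Basic
import Mathlib.RingTheory.Noetherian.Basic
import Mathlib.RingTheory.TensorProduct.Basic
import Mathlib.LinearAlgebra.TensorProduct.RightExactness
import Mathlib.RingTheory.Ideal.Maps

/-!
# Primes of `L ⊗ B` coming from a finite level

`fg_ker`: let `φ : L ⊗[V] B → F` be a ring map to a field, `K₁ → L` and `K₁ → E` field extensions,
`E → F` and `B → E` compatible maps such that `K₁ ⊗[V] B` is Noetherian and `L ⊗[K₁] E` is a field;
then the kernel of `φ` is finitely generated.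
-/

set_option autoImplicit false

open TensorProduct

namespace K653.MilnorA

/-- The kernel of `L ⊗ C → L ⊗ E` is generated by the kernel of `C → E`, over a field. -/
theorem ker_map_eq {K L C E : Type*} [Field K] [CommRing L] [CommRing C] [CommRing E]
    [Algebra K L] [Algebra K C] [Algebra K E] (g : C →ₐ[K] E) :
    RingHom.ker (Algebra.TensorProduct.map (AlgHom.id L L) g) =
      (RingHom.ker g).map (Algebra.TensorProduct.includeRight : C →ₐ[K] L ⊗[K] C) := by
  apply le_antisymm
  · intro z hz
    have hex : Function.Exact (LinearMap.ker g.toLinearMap).subtype g.toLinearMap :=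
      LinearMap.exact_subtype_ker_map g.toLinearMap
    have h2 := Module.Flat.lTensor_exact L hex
    have hz' : (LinearMap.lTensor L g.toLinearMap) z = 0 := by
      have h3 : ∀ z : L ⊗[K] C, (LinearMap.lTensor L g.toLinearMap) z =
          (Algebra.TensorProduct.map (AlgHom.id L L) g) z := by
        intro z
        induction z with
        | zero => simp
        | tmul a b => simp
        | add a b ha hb => rw [map_add, map_add, ha, hb]
      rw [h3]; exact hz
    obtain ⟨w, rfl⟩ := (h2 z).1 hz'
    clear hz hz'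
    induction w with
    | zero => simp
    | tmul a b =>
      rw [LinearMap.lTensor_tmul]
      have : a ⊗ₜ[K] ((LinearMap.ker g.toLinearMap).subtype b) =
          (a ⊗ₜ[K] (1 : C)) * Algebra.TensorProduct.includeRight
            ((LinearMap.ker g.toLinearMap).subtype b) := by
        simp
      rw [this]
      apply Ideal.mul_mem_left
      apply Ideal.mem_map_of_mem
      exact b.2
    | add a b ha hb => rw [map_add]; exact Ideal.add_mem _ ha hb
  · rw [Ideal.map_le_iff_le_comap]
    intro c hc
    rw [RingHom.mem_ker] at hc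
    rw [Ideal.mem_comap, RingHom.mem_ker]
    simp [hc]

/-- A prime of `L ⊗[V] B` given by a map to a field is finitely generated when it comes from a
finite level in the sense of the hypotheses. -/
theorem fg_ker {V B L F K E : Type*} [CommRing V] [CommRing B] [Field L] [Field F] [Field K]
    [Field E] [Algebra V L] [Algebra V B] [Algebra V K] [Algebra K L] [IsScalarTower V K L]
    [Algebra V E] [Algebra K E] [IsScalarTower V K E]
    (φ : L ⊗[V] B →+* F) (β : B →ₐ[V] E) (ι : E →+* F)
    (h1 : ∀ b : B, φ (1 ⊗ₜ b) = ι (β b))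
    (h2 : ∀ x : K, φ (algebraMap K L x ⊗ₜ 1) = ι (algebraMap K E x))
    [IsNoetherianRing (K ⊗[V] B)] (hE : IsField (E ⊗[K] L)) :
    (RingHom.ker φ).FG := by
  let _ : Algebra K F := (ι.comp (algebraMap K E)).toAlgebra
  let g : K ⊗[V] B →ₐ[K] E := Algebra.TensorProduct.lift (Algebra.ofId K E) β
    (fun _ _ => Commute.all _ _)
  have hg1 : ∀ b : B, g (1 ⊗ₜ b) = β b := fun b => by simp [g]
  let χ : L ⊗[K] (K ⊗[V] B) →ₐ[L] L ⊗[K] E := Algebra.TensorProduct.map (AlgHom.id L L) g
  let ω : L ⊗[K] E →ₐ[K] F := Algebra.TensorProduct.lift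
    ({ toRingHom := φ.comp (Algebra.TensorProduct.includeLeftRingHom : L →+* L ⊗[V] B)
       commutes' := fun x => by
        change φ (algebraMap K L x ⊗ₜ 1) = _
        rw [h2]; rfl } : L →ₐ[K] F)
    ({ toRingHom := ι
       commutes' := fun x => rfl } : E →ₐ[K] F)
    (fun _ _ => Commute.all _ _)
  have hω : Function.Injective ω := by
    have hF : IsField (L ⊗[K] E) :=
      MulEquiv.isField hE (Algebra.TensorProduct.comm K L E).toMulEquiv
    let _ := hF.toField
    exact (ω : L ⊗[K] E →+* F).injective
  let e : L ⊗[K] (K ⊗[V] B) ≃ₐ[L] L ⊗[V] B := Algebra.TensorProduct.cancelBaseChange V K L L B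
  have hcomp : ∀ z, φ (e z) = ω (χ z) := by
    intro z
    induction z with
    | zero => simp
    | add a b ha hb => rw [map_add, map_add, map_add, map_add, ha, hb]
    | tmul a c =>
      induction c with
      | zero => simp
      | add a b ha hb => 
        rw [TensorProduct.tmul_add, map_add, map_add, map_add, map_add, ha, hb]
      | tmul x b =>
        have e1 : e (a ⊗ₜ (x ⊗ₜ b)) = (a ⊗ₜ 1) * ((algebraMap K L x) ⊗ₜ 1) * (1 ⊗ₜ b) := by
          change Algebra.TensorProduct.cancelBaseChange V K L L B (a ⊗ₜ (x ⊗ₜ b)) = _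
          rw [Algebra.TensorProduct.cancelBaseChange_tmul]
          simp [Algebra.smul_def, mul_comm]
        have e2 : χ (a ⊗ₜ (x ⊗ₜ b)) = (a ⊗ₜ 1) * (1 ⊗ₜ (algebraMap K E x)) * (1 ⊗ₜ β b) := by
          simp [χ, g, Algebra.ofId_apply]
        have o1 : ω (a ⊗ₜ 1) = φ (a ⊗ₜ 1) := by
          change φ (a ⊗ₜ 1) * ι 1 = _
          rw [map_one, mul_one]
        have o2 : ∀ y : E, ω (1 ⊗ₜ y) = ι y := fun y => by
          change φ (1 ⊗ₜ 1) * ι y = _
          rw [show (1 : L) ⊗ₜ[V] (1 : B) = 1 from rfl, map_one, one_mul]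
        rw [e1, e2, map_mul, map_mul, map_mul, map_mul, h1, h2, o1, o2, o2]
  have hker : RingHom.ker φ = ((RingHom.ker g).map
      (Algebra.TensorProduct.includeRight : K ⊗[V] B →ₐ[K] L ⊗[K] (K ⊗[V] B))).map
        (e : L ⊗[K] (K ⊗[V] B) →+* L ⊗[V] B) := by
    rw [← ker_map_eq (L := L) g]
    ext z
    obtain ⟨w, rfl⟩ := e.surjective z
    rw [RingHom.mem_ker, hcomp, map_eq_zero_iff ω hω]
    constructor
    · intro h
      exact Ideal.mem_map_of_mem _ h
    · intro h
      have h3 := (Ideal.mem_map_iff_of_surjective (e : L ⊗[K] (K ⊗[V] B) →+* L ⊗[V] B)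
        e.surjective).1 h
      obtain ⟨w', hw', hww⟩ := h3
      have : w' = w := e.injective hww
      subst this
      exact hw'
  rw [hker]
  exact Ideal.FG.map (Ideal.FG.map (IsNoetherian.noetherian (RingHom.ker g)) _) _

end K653.MilnorA
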